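import Cfsg.Agent.Lib.Helper56.J1R.ChkP0
import Cfsg.Agent.Lib.Helper56.J1R.ChkP1
import Cfsg.Agent.Lib.Helper56.J1R.ChkP2
import Cfsg.Agent.Lib.Helper56.J1R.ChkP3
import Cfsg.Agent.Lib.Helper56.J1R.ChkP4
import Cfsg.Agent.Lib.Helper56.J1R.ChkF0
import Cfsg.Agent.Lib.Helper56.J1R.ChkF1
import Cfsg.Agent.Lib.Helper56.J1R.ChkF2
import Cfsg.Agent.Lib.Helper56.J1R.ChkF3
import Cfsg.Agent.Lib.Helper56.J1R.ChkF4
import Cfsg.Agent.Lib.Helper56.J1R.ChkF5
import Cfsg.Agent.Lib.Helper56.J1R.ChkF6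
import Cfsg.Agent.Lib.Helper56.J1R.ChkF7
import Cfsg.Agent.Lib.Helper56.J1R.ChkF8
import Cfsg.Agent.Lib.Helper56.J1R.ChkF9
import Cfsg.Agent.Lib.Helper56.J1R.ChkF10
import Cfsg.Agent.Lib.Helper56.J1R.ChkF11
import Cfsg.Agent.Lib.Helper56.J1R.ChkF12
import Cfsg.Agent.Lib.Helper56.J1R.ChkF13
import Cfsg.Agent.Lib.Helper56.J1R.ChkF14
import Cfsg.Agent.Lib.Helper56.J1R.ChkF15
import Cfsg.Agent.Lib.Helper56.J1R.ChkF16
import Cfsg.Agent.Lib.Helper56.J1R.ChkF17
import Cfsg.Agent.Lib.Helper56.J1R.ChkF18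
import Cfsg.Agent.Lib.Helper56.J1R.ChkF19
import Cfsg.Agent.Lib.Helper56.J1R.ChkF20
import Cfsg.Agent.Lib.Helper56.J1R.ChkF21
import Cfsg.Agent.Lib.Helper56.J1R.ChkF22
import Cfsg.Agent.Lib.Helper56.J1R.ChkF23
import Cfsg.Agent.Lib.Helper56.J1R.ChkF24
import Cfsg.Agent.Lib.Helper56.J1R.ChkF25
import Cfsg.Agent.Lib.Helper56.J1R.ChkF26
import Cfsg.Agent.Lib.Helper56.J1R.ChkF27
import Cfsg.Agent.Lib.Helper56.J1R.ChkF28
import Cfsg.Agent.Lib.Helper56.J1R.ChkF29
import Cfsg.Agent.Lib.Helper56.J1R.ChkF30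
import Cfsg.Agent.Lib.Helper56.J1R.ChkF31
import Cfsg.Agent.Lib.Helper56.J1R.ChkF32
import Cfsg.Agent.Lib.Helper56.J1R.ChkF33
import Cfsg.Agent.Lib.Helper56.J1R.ChkF34
import Cfsg.Agent.Lib.Helper56.J1R.ChkF35
import Cfsg.Agent.Lib.Helper56.J1R.ChkC0
import Cfsg.Agent.Lib.Helper56.J1R.ChkC1

set_option autoImplicit false
set_option linter.unusedVariables false

namespace Cfsg.Agent.Lib.Helper56.J1R

open Cfsg.Agent.Lib.Helper56.J1Q (Gen gens mem_gens relE rels hinv)
open Cfsg.Agent.Lib.Helper28.TC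

noncomputable section

def NNpad : ℕ := 36864
theorem permP_all : ∀ i, i < nn → permP i = true := by
  refine all_of_blocks nn permP 8 5 (by decide) ?_
  intro k hk
  interval_cases k
  · exact permP_blk0
  · exact permP_blk1
  · exact permP_blk2
  · exact permP_blk3
  · exact permP_blk4

theorem factP_all : ∀ i, i < NNpad → factP i = true := by
  refine allBlocks_spec factP 10 36 ?_
  intro k hk
  interval_cases k
  · exact factP_blk0
  · exact factP_blk1
  · exact factP_blk2
  · exact factP_blk3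
  · exact factP_blk4
  · exact factP_blk5
  · exact factP_blk6
  · exact factP_blk7
  · exact factP_blk8
  · exact factP_blk9
  · exact factP_blk10
  · exact factP_blk11
  · exact factP_blk12
  · exact factP_blk13
  · exact factP_blk14
  · exact factP_blk15
  · exact factP_blk16
  · exact factP_blk17
  · exact factP_blk18
  · exact factP_blk19
  · exact factP_blk20
  · exact factP_blk21
  · exact factP_blk22
  · exact factP_blk23
  · exact factP_blk24
  · exact factP_blk25
  · exact factP_blk26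
  · exact factP_blk27
  · exact factP_blk28
  · exact factP_blk29
  · exact factP_blk30
  · exact factP_blk31
  · exact factP_blk32
  · exact factP_blk33
  · exact factP_blk34
  · exact factP_blk35

theorem closedP_all : ∀ i, i < nn → closedP i = true := by
  refine all_of_blocks nn closedP 10 2 (by decide) ?_
  intro k hk
  interval_cases k
  · exact closedP_blk0
  · exact closedP_blk1

theorem hotA_lt : hotA < 2 ^ (33 * 36864) := by decide +kernel
theorem hotE0_lt : hotE0 < 2 ^ (33 * 36864) := by decide +kernel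
theorem hotE1_lt : hotE1 < 2 ^ (33 * 36864) := by decide +kernel
theorem hotE2_lt : hotE2 < 2 ^ (33 * 36864) := by decide +kernel
theorem subFix : allList (fun w => Nat.beq (act tf w 0) 0) subWords = true := by decide +kernel

end

end Cfsg.Agent.Lib.Helper56.J1R
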