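import Cfsg.Agent.Lib.Helper56.J1R.DataE0
import Cfsg.Agent.Lib.Helper56.J1R.DataE1
import Cfsg.Agent.Lib.Helper56.J1R.DataE2
import Cfsg.Agent.Lib.Helper56.J1R.DataA

set_option autoImplicit false
set_option linter.unusedVariables false

namespace Cfsg.Agent.Lib.Helper56.J1R

open Cfsg.Agent.Lib.Helper56.J1Q (Gen gens mem_gens relE rels hinv)
open Cfsg.Agent.Lib.Helper28.TC

noncomputable section

/-- decode a generator -/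
def genOf (c : ℕ) : Gen := Nat.rec (motive := fun _ => Gen) Gen.p (fun c _ => Nat.rec (motive := fun _ => Gen) Gen.q (fun c _ => Gen.r) c) c

def hotE (x : Gen) : ℕ := Gen.rec (motive := fun _ => ℕ) hotE0 hotE1 hotE2 x
def coldE (x : Gen) : ℕ := Gen.rec (motive := fun _ => ℕ) coldE0 coldE1 coldE2 x
def tfT (x : Gen) : ℕ := Gen.rec (motive := fun _ => ℕ) tfT0 tfT1 tfT2 x

def entH (x : Gen) (u : ℕ) : ℕ := look (hotE x) 33 8589934591 u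
def jEc (x : Gen) (u : ℕ) : ℕ := look (coldE x) 42 4398046511103 u
def alH (k : ℕ) : ℕ := look hotA 33 8589934591 k
def jAc (k : ℕ) : ℕ := look coldA 88 309485009821345068724781055 k
def treeE (k : ℕ) : ℕ := look treeT 31 2147483647 k
/-- the final coset table -/
def tf (x : Gen) (i : ℕ) : ℕ := look (tfT x) 11 2047 i
/-- the final coset number of a row -/
def fin (k : ℕ) : ℕ := Nat.shiftRight (treeE k) 20
/-- the designated row of a final coset -/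
def rowOf (i : ℕ) : ℕ := look rowT 16 65535 i

/-- the cycle words with their reverses and lengths -/
def cycs : List (List Gen × List Gen × ℕ) := [
  ([Gen.p, Gen.p], [Gen.p, Gen.p], 2),
  ([Gen.q, Gen.q], [Gen.q, Gen.q], 2),
  ([Gen.r, Gen.r], [Gen.r, Gen.r], 2),
  ([Gen.p, Gen.q, Gen.p, Gen.q, Gen.p, Gen.q, Gen.p, Gen.q, Gen.p, Gen.q, Gen.p, Gen.q, Gen.p, Gen.q, Gen.p, Gen.q, Gen.p, Gen.q, Gen.p, Gen.q, Gen.p, Gen.q, Gen.p, Gen.q, Gen.p, Gen.q, Gen.p, Gen.q, Gen.p, Gen.q, Gen.p, Gen.q, Gen.p, Gen.q, Gen.p, Gen.q, Gen.p, Gen.q], [Gen.q, Gen.p, Gen.q, Gen.p, Gen.q, Gen.p, Gen.q, Gen.p, Gen.q, Gen.p, Gen.q, Gen.p, Gen.q, Gen.p, Gen.q, Gen.p, Gen.q, Gen.p, Gen.q, Gen.p, Gen.q, Gen.p, Gen.q, Gen.p, Gen.q, Gen.p, Gen.q, Gen.p, Gen.q, Gen.p, Gen.q, Gen.p, Gen.q, Gen.p, Gen.q, Gen.p, Gen.q, Gen.p], 38),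
  ([Gen.p, Gen.r, Gen.p, Gen.r, Gen.p, Gen.r, Gen.p, Gen.r, Gen.p, Gen.r], [Gen.r, Gen.p, Gen.r, Gen.p, Gen.r, Gen.p, Gen.r, Gen.p, Gen.r, Gen.p], 10),
  ([Gen.p, Gen.q, Gen.p, Gen.q, Gen.p, Gen.q, Gen.r, Gen.q, Gen.p, Gen.q, Gen.p, Gen.q, Gen.p, Gen.q, Gen.r, Gen.q], [Gen.q, Gen.r, Gen.q, Gen.p, Gen.q, Gen.p, Gen.q, Gen.p, Gen.q, Gen.r, Gen.q, Gen.p, Gen.q, Gen.p, Gen.q, Gen.p], 16),
  ([Gen.p, Gen.q, Gen.p, Gen.q, Gen.p, Gen.q, Gen.r, Gen.p, Gen.r, Gen.p, Gen.r, Gen.q, Gen.r, Gen.q, Gen.r, Gen.q, Gen.p, Gen.r, Gen.q, Gen.p, Gen.q, Gen.p, Gen.r], [Gen.r, Gen.p, Gen.q, Gen.p, Gen.q, Gen.r, Gen.p, Gen.q, Gen.r, Gen.q, Gen.r, Gen.q, Gen.r, Gen.p, Gen.r, Gen.p, Gen.r, Gen.q, Gen.p, Gen.q, Gen.p, Gen.q, Gen.p], 23),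
  ([Gen.p, Gen.q, Gen.r], [Gen.r, Gen.q, Gen.p], 3),
  ([Gen.q, Gen.r, Gen.q, Gen.r, Gen.q, Gen.p, Gen.q, Gen.r, Gen.q, Gen.r, Gen.q], [Gen.q, Gen.r, Gen.q, Gen.r, Gen.q, Gen.p, Gen.q, Gen.r, Gen.q, Gen.r, Gen.q], 11),
  ([Gen.q, Gen.r, Gen.q, Gen.r, Gen.p, Gen.q, Gen.r, Gen.q, Gen.r, Gen.p, Gen.r, Gen.q, Gen.r, Gen.p], [Gen.p, Gen.r, Gen.q, Gen.r, Gen.p, Gen.r, Gen.q, Gen.r, Gen.q, Gen.p, Gen.r, Gen.q, Gen.r, Gen.q], 14)]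

/-- the relator words -/
def relWords : List (List Gen) := [
  [Gen.p, Gen.p],
  [Gen.q, Gen.q],
  [Gen.r, Gen.r],
  [Gen.p, Gen.q, Gen.p, Gen.q, Gen.p, Gen.q, Gen.p, Gen.q, Gen.p, Gen.q, Gen.p, Gen.q, Gen.p, Gen.q, Gen.p, Gen.q, Gen.p, Gen.q, Gen.p, Gen.q, Gen.p, Gen.q, Gen.p, Gen.q, Gen.p, Gen.q, Gen.p, Gen.q, Gen.p, Gen.q, Gen.p, Gen.q, Gen.p, Gen.q, Gen.p, Gen.q, Gen.p, Gen.q],
  [Gen.p, Gen.r, Gen.p, Gen.r, Gen.p, Gen.r, Gen.p, Gen.r, Gen.p, Gen.r],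
  [Gen.p, Gen.q, Gen.p, Gen.q, Gen.p, Gen.q, Gen.r, Gen.q, Gen.p, Gen.q, Gen.p, Gen.q, Gen.p, Gen.q, Gen.r, Gen.q],
  [Gen.p, Gen.q, Gen.p, Gen.q, Gen.p, Gen.q, Gen.r, Gen.p, Gen.r, Gen.p, Gen.r, Gen.q, Gen.r, Gen.q, Gen.r, Gen.q, Gen.p, Gen.r, Gen.q, Gen.p, Gen.q, Gen.p, Gen.r]]

/-- the subgroup generator words -/
def subWords : List (List Gen) := [
  [Gen.p, Gen.q, Gen.r],
  [Gen.q, Gen.r, Gen.q, Gen.r, Gen.q, Gen.p, Gen.q, Gen.r, Gen.q, Gen.r, Gen.q],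
  [Gen.q, Gen.r, Gen.q, Gen.r, Gen.p, Gen.q, Gen.r, Gen.q, Gen.r, Gen.p, Gen.r, Gen.q, Gen.r, Gen.p]]

/-- the certificate -/
def C : Cert Gen where
  par := fun k => Nat.land (treeE k) 65535
  gn := fun k => genOf (Nat.land (Nat.shiftRight (treeE k) 16) 15)
  ent := fun x u => Nat.land (entH x u) 65535
  rkE := fun x u => Nat.shiftRight (entH x u) 16
  jEk := fun x u => Nat.land (jEc x u) 3
  jEa := fun x u => Nat.land (Nat.shiftRight (jEc x u) 2) 65535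
  jEp := fun x u => Nat.land (Nat.shiftRight (jEc x u) 18) 255
  jEz := fun x u => Nat.shiftRight (jEc x u) 26
  al := fun k => Nat.land (alH k) 65535
  rkA := fun k => Nat.shiftRight (alH k) 16
  jAx := fun k => genOf (Nat.land (jAc k) 15)
  jA1k := fun k => Nat.land (Nat.shiftRight (jAc k) 4) 3
  jA1a := fun k => Nat.land (Nat.shiftRight (jAc k) 6) 65535
  jA1p := fun k => Nat.land (Nat.shiftRight (jAc k) 22) 255
  jA1z := fun k => Nat.land (Nat.shiftRight (jAc k) 30) 65535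
  jA2k := fun k => Nat.land (Nat.shiftRight (jAc k) 46) 3
  jA2a := fun k => Nat.land (Nat.shiftRight (jAc k) 48) 65535
  jA2p := fun k => Nat.land (Nat.shiftRight (jAc k) 64) 255
  jA2z := fun k => Nat.land (Nat.shiftRight (jAc k) 72) 65535
  cycW := fun ci => (nthD cycs ci ([], [], 0)).1
  cycR := fun ci => (nthD cycs ci ([], [], 0)).2.1
  cycL := fun ci => (nthD cycs ci ([], [], 0)).2.2
  cycA := fun ci => Nat.ble 7 ci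
  fuel := 8

def NN : ℕ := 36778
def nn : ℕ := 1045
def RR : ℕ := 112170

end

end Cfsg.Agent.Lib.Helper56.J1R
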