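import Cfsg.Agent.Lib.Helper56.J1Q.Pres

set_option autoImplicit false

namespace Cfsg.Agent.Lib.Helper56.J1R

open Cfsg.Agent.Lib.Helper56.J1Q (Gen gens mem_gens relE rels hinv)
open Cfsg.Agent.Lib.Helper28.TC

/-- the subgroup generators, as expressions -/
def subE : List (WE Gen) := [(WE.mul (WE.mul (WE.of Gen.p) (WE.of Gen.q)) (WE.of Gen.r)), (WE.mul (WE.mul (WE.mul (WE.mul (WE.mul (WE.mul (WE.mul (WE.mul (WE.mul (WE.mul (WE.of Gen.q) (WE.of Gen.r)) (WE.of Gen.q)) (WE.of Gen.r)) (WE.of Gen.q)) (WE.of Gen.p)) (WE.of Gen.q)) (WE.of Gen.r)) (WE.of Gen.q)) (WE.of Gen.r)) (WE.of Gen.q)), (WE.mul (WE.mul (WE.mul (WE.mul (WE.mul (WE.mul (WE.mul (WE.mul (WE.mul (WE.mul (WE.mul (WE.mul (WE.mul (WE.of Gen.q) (WE.of Gen.r)) (WE.of Gen.q)) (WE.of Gen.r)) (WE.of Gen.p)) (WE.of Gen.q)) (WE.of Gen.r)) (WE.of Gen.q)) (WE.of Gen.r)) (WE.of Gen.p)) (WE.of Gen.r))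 (WE.of Gen.q)) (WE.of Gen.r)) (WE.of Gen.p))]

/-- the subgroup generators -/
abbrev subS : Set (FreeGroup Gen) := {s | ∃ e ∈ subE, s = e.evalF}

end Cfsg.Agent.Lib.Helper56.J1R
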